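import Groth.Agent.Lib.QCoh.Center9
import Groth.Agent.Lib.QCoh.LocGenOpen
import Groth.Agent.Lib.OX.Support
import Groth.Agent.Lib.QCoh.SupportExact
import Mathlib.CategoryTheory.Localization.CalculusOfFractions
import Mathlib.CategoryTheory.Localization.Predicate

/-!
# Restriction of coherent modules to an open is a localization
-/

set_option autoImplicit false
set_option backward.isDefEq.respectTransparency false
universe u v₁ v₂ w₁ w₂

open CategoryTheory CategoryTheory.Limits AlgebraicGeometry TopologicalSpace Opposite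

noncomputable section

namespace GrothLib.CohGab9

/-- A functor with roofs and equalizing denominators is a localization. -/
theorem isLocalization_of_roofs {C : Type w₁} [Category.{v₁} C] {D : Type w₂} [Category.{v₂} D] (F : C ⥤ D)
    (W : MorphismProperty C) (hW : ∀ ⦃A B : C⦄ (f : A ⟶ B), W f ↔ IsIso (F.map f))
    (hess : ∀ d : D, ∃ c : C, Nonempty (F.obj c ≅ d))
    (hroof : ∀ (A B : C) (g : F.obj A ⟶ F.obj B),
      ∃ (P : C) (s : P ⟶ A) (f : P ⟶ B), IsIso (F.map s) ∧ F.map f = F.map s ≫ g)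
    (heq : ∀ (A B : C) (φ ψ : A ⟶ B), F.map φ = F.map ψ →
      ∃ (P : C) (s : P ⟶ A), IsIso (F.map s) ∧ s ≫ φ = s ≫ ψ) :
    F.IsLocalization W := by
  haveI : W.IsMultiplicative :=
    { id_mem := fun A => (hW _).mpr (by rw [F.map_id]; infer_instance)
      comp_mem := fun f g hf hg => (hW _).mpr (by
        haveI := (hW f).mp hf; haveI := (hW g).mp hg
        rw [F.map_comp]; infer_instance) }
  haveI : W.HasRightCalculusOfFractions :=
    { exists_rightFraction := fun {A B} φ => by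
        haveI := (hW φ.s).mp φ.hs
        obtain ⟨P, s, f, hs, hf⟩ := hroof A B (F.map φ.f ≫ inv (F.map φ.s))
        obtain ⟨P', t, ht, hte⟩ := heq P _ (s ≫ φ.f) (f ≫ φ.s)
          (by rw [F.map_comp, F.map_comp, hf, Category.assoc, Category.assoc, IsIso.inv_hom_id, Category.comp_id])
        refine ⟨⟨t ≫ s, (hW _).mpr ?_, t ≫ f⟩, by simpa [Category.assoc] using hte⟩
        rw [F.map_comp]; infer_instance
      ext := fun {A B B'} f₁ f₂ s hs h => by
        haveI := (hW s).mp hs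
        obtain ⟨P, t, ht, hte⟩ := heq A B f₁ f₂
          ((cancel_mono (F.map s)).mp (by rw [← F.map_comp, ← F.map_comp, h]))
        exact ⟨P, t, (hW t).mpr ht, hte⟩ }
  have hinv : W.IsInvertedBy F := fun A B f hf => (hW f).mp hf
  let G := Localization.Construction.lift F hinv
  have hfac : W.Q ⋙ G = F := Localization.Construction.fac F hinv
  let e : W.Q ⋙ G ≅ F := eqToIso hfac
  -- maps between localized objects
  have key : ∀ (A B : C) (φ : W.RightFraction A B),
      G.map (φ.map W.Q W.Q_inverts) ≫ (e.app B).hom =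
        (e.app A).hom ≫ (haveI := (hW φ.s).mp φ.hs; inv (F.map φ.s) ≫ F.map φ.f) := by
    intro A B φ
    haveI := (hW φ.s).mp φ.hs
    haveI := W.Q_inverts φ.s φ.hs
    rw [← cancel_epi (G.map (W.Q.map φ.s)), ← Category.assoc, ← G.map_comp,
      MorphismProperty.RightFraction.map_s_comp_map]
    refine (e.hom.naturality φ.f).trans ?_
    rw [← Category.assoc, show G.map (W.Q.map φ.s) ≫ (e.app A).hom = (e.app φ.X').hom ≫ F.map φ.s from
      e.hom.naturality φ.s, Category.assoc, IsIso.hom_inv_id_assoc]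
    rfl
  haveI : G.Full := ⟨fun {A' B'} g => by
    obtain ⟨A, ⟨a⟩⟩ : ∃ A, Nonempty (W.Q.obj A ≅ A') :=
      ⟨_, ⟨(W.Q.objObjPreimageIso A')⟩⟩
    obtain ⟨B, ⟨b⟩⟩ : ∃ B, Nonempty (W.Q.obj B ≅ B') :=
      ⟨_, ⟨(W.Q.objObjPreimageIso B')⟩⟩
    obtain ⟨P, s, f, hs, hf⟩ := hroof A B ((e.app A).inv ≫ G.map a.hom ≫ g ≫ G.map b.inv ≫ (e.app B).hom)
    let φ : W.RightFraction A B := ⟨s, (hW s).mpr hs, f⟩
    refine ⟨a.inv ≫ φ.map W.Q W.Q_inverts ≫ b.hom, ?_⟩
    have h1 := key A B φ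
    rw [show (haveI := (hW φ.s).mp φ.hs; inv (F.map φ.s) ≫ F.map φ.f) =
      (e.app A).inv ≫ G.map a.hom ≫ g ≫ G.map b.inv ≫ (e.app B).hom by
        show inv (F.map s) ≫ F.map f = _
        rw [hf, IsIso.inv_hom_id_assoc], Iso.hom_inv_id_assoc] at h1
    rw [← Category.assoc, ← Category.assoc (G.map a.hom ≫ g), cancel_mono, Category.assoc] at h1
    rw [G.map_comp, G.map_comp, h1]
    simp only [Category.assoc, ← G.map_comp, b.inv_hom_id, a.inv_hom_id_assoc, G.map_id, Category.comp_id,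
      ← G.map_comp_assoc, Category.id_comp]
    simp⟩
  haveI : G.Faithful := ⟨fun {A' B'} g g' h => by
    obtain ⟨A, ⟨a⟩⟩ : ∃ A, Nonempty (W.Q.obj A ≅ A') :=
      ⟨_, ⟨(W.Q.objObjPreimageIso A')⟩⟩
    obtain ⟨B, ⟨b⟩⟩ : ∃ B, Nonempty (W.Q.obj B ≅ B') :=
      ⟨_, ⟨(W.Q.objObjPreimageIso B')⟩⟩
    suffices a.hom ≫ g ≫ b.inv = a.hom ≫ g' ≫ b.inv by
      rwa [cancel_epi, cancel_mono] at this
    obtain ⟨φ, hφ⟩ := Localization.exists_rightFraction W.Q W (a.hom ≫ g ≫ b.inv)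
    obtain ⟨ψ, hψ⟩ := Localization.exists_rightFraction W.Q W (a.hom ≫ g' ≫ b.inv)
    haveI hs := (hW φ.s).mp φ.hs
    haveI hs' := (hW ψ.s).mp ψ.hs
    have h1 : inv (F.map φ.s) ≫ F.map φ.f = inv (F.map ψ.s) ≫ F.map ψ.f := by
      have h2 : G.map (φ.map W.Q W.Q_inverts) = G.map (ψ.map W.Q W.Q_inverts) := by
        rw [← hφ, ← hψ]; simp only [G.map_comp, h]
      have := congrArg (fun k => k ≫ (e.app B).hom) h2
      simp only [key] at this
      exact (cancel_epi (e.app A).hom).mp this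
    rw [hφ, hψ]
    -- a common denominator
    obtain ⟨P, t, f', ht, hf'⟩ := hroof φ.X' ψ.X' (F.map φ.s ≫ inv (F.map ψ.s))
    obtain ⟨P₁, t₁, ht₁, hte₁⟩ := heq P _ (t ≫ φ.s) (f' ≫ ψ.s)
      (by rw [F.map_comp, F.map_comp, hf', Category.assoc, Category.assoc, IsIso.inv_hom_id, Category.comp_id])
    obtain ⟨P₂, t₂, ht₂, hte₂⟩ := heq P₁ _ (t₁ ≫ t ≫ φ.f) (t₁ ≫ f' ≫ ψ.f) (by
      have h3 : F.map φ.f = F.map φ.s ≫ inv (F.map ψ.s) ≫ F.map ψ.f := by
        rw [← h1, IsIso.hom_inv_id_assoc]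
      simp only [F.map_comp, hf', Category.assoc, h3])
    haveI := W.Q_inverts φ.s φ.hs
    haveI := W.Q_inverts ψ.s ψ.hs
    haveI := W.Q_inverts _ ((hW (t₂ ≫ t₁ ≫ t)).mpr (by rw [F.map_comp, F.map_comp]; infer_instance))
    rw [← cancel_epi (W.Q.map φ.s), MorphismProperty.RightFraction.map_s_comp_map,
      ← cancel_epi (W.Q.map (t₂ ≫ t₁ ≫ t)), ← Category.assoc (W.Q.map (t₂ ≫ t₁ ≫ t)) (W.Q.map φ.s), ← W.Q.map_comp (t₂ ≫ t₁ ≫ t) φ.f,
      show W.Q.map (t₂ ≫ t₁ ≫ t) ≫ W.Q.map φ.s = W.Q.map (t₂ ≫ t₁ ≫ f') ≫ W.Q.map ψ.s by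
        rw [← W.Q.map_comp, ← W.Q.map_comp]
        simp only [Category.assoc, hte₁],
      Category.assoc (W.Q.map (t₂ ≫ t₁ ≫ f')) (W.Q.map ψ.s), MorphismProperty.RightFraction.map_s_comp_map,
      ← W.Q.map_comp]
    simp only [Category.assoc, hte₂]⟩
  haveI : G.EssSurj := ⟨fun d => by
    obtain ⟨c, ⟨i⟩⟩ := hess d
    exact ⟨W.Q.obj c, ⟨e.app c ≪≫ i⟩⟩⟩
  exact { inverts := hinv, isEquivalence := { } }

variable {X : Scheme.{u}}

theorem app_bijective_of_isIso_restrict {M N : X.Modules} (f : M ⟶ N) (U : X.Opens)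
    (h : ∀ V : X.Opens, V ≤ U → Function.Bijective (f.app V)) :
    IsIso ((Scheme.Modules.restrictFunctor U.ι).map f) :=
  Scheme.Modules.Hom.isIso_iff_isIso_app.2 fun Z =>
    (ConcreteCategory.isIso_iff_bijective _).2 (h (U.ι ''ᵁ Z) (U.ι_image_le Z))

/-- An isomorphism on an open is one on sections below it, and conversely. -/
theorem app_bijective_of_restrict {M N : X.Modules} (f : M ⟶ N) (U : X.Opens)
    [IsIso ((Scheme.Modules.restrictFunctor U.ι).map f)] (V : X.Opens) (hV : V ≤ U) :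
    Function.Bijective (f.app V) := by
  obtain ⟨Z, rfl⟩ : ∃ Z, U.ι ''ᵁ Z = V := ⟨U.ι ⁻¹ᵁ V, by
    rw [Scheme.Hom.image_preimage_eq_opensRange_inf, Scheme.Opens.opensRange_ι]; exact inf_eq_right.mpr hV⟩
  exact ConcreteCategory.bijective_of_isIso (((Scheme.Modules.restrictFunctor U.ι).map f).app Z)

theorem isIso_restrict_iff_support {M N : X.Modules} (f : M ⟶ N) (U : X.Opens) :
    IsIso ((Scheme.Modules.restrictFunctor U.ι).map f) ↔
      CohB1.support (kernel f) ⊆ (↑U : Set X)ᶜ ∧ CohB1.support (cokernel f) ⊆ (↑U : Set X)ᶜ := by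
  let R := Scheme.Modules.restrictFunctor U.ι
  have hr : (Set.range U.ι)ᶜ = (↑U : Set X)ᶜ := by rw [Scheme.Opens.range_ι]
  have hz : ∀ K : X.Modules, IsZero (R.obj K) ↔ CohB1.support K ⊆ (↑U : Set X)ᶜ := fun K =>
    ⟨fun h => hr ▸ OX.support_subset_of_isZero_restrict U.ι h,
      fun h => OX.isZero_restrict_of_support U.ι fun y hy => h hy y.2⟩
  rw [← hz, ← hz]
  constructor
  · intro h
    exact ⟨(isZero_kernel_of_mono (R.map f)).of_iso (PreservesKernel.iso R f),
      (isZero_cokernel_of_epi (R.map f)).of_iso (PreservesCokernel.iso R f)⟩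
  · rintro ⟨h1, h2⟩
    haveI : Mono (R.map f) := Preadditive.mono_of_isZero_kernel _ (h1.of_iso (PreservesKernel.iso R f).symm)
    haveI : Epi (R.map f) := Preadditive.epi_of_isZero_cokernel _ (h2.of_iso (PreservesCokernel.iso R f).symm)
    exact isIso_of_mono_of_epi _

/-- Roofs for maps between restrictions of coherent modules. -/
theorem exists_roof [IsNoetherian X] (U : X.Opens) {A B : X.Modules} (hA : Coh.IsCoh A) (hB : Coh.IsCoh B)
    (g : (Scheme.Modules.restrictFunctor U.ι).obj A ⟶ (Scheme.Modules.restrictFunctor U.ι).obj B) :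
    ∃ (P : X.Modules) (_ : Coh.IsCoh P) (s : P ⟶ A) (f : P ⟶ B),
      IsIso ((Scheme.Modules.restrictFunctor U.ι).map s) ∧
        (Scheme.Modules.restrictFunctor U.ι).map f = (Scheme.Modules.restrictFunctor U.ι).map s ≫ g := by
  let R := Scheme.Modules.restrictFunctor U.ι
  let adj := Scheme.Modules.restrictAdjunction U.ι
  let J : X.Modules := (Scheme.Modules.pushforward U.ι).obj (R.obj B)
  let η : B ⟶ J := adj.unit.app B
  let α : A ⟶ J := adj.homEquiv _ _ g
  haveI : A.IsQuasicoherent := hA.1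
  haveI : B.IsQuasicoherent := hB.1
  haveI : QuasiCompact U.ι := inferInstance
  haveI hBU : (B.restrict U.ι).IsQuasicoherent := inferInstance
  haveI : J.IsQuasicoherent := by
    haveI : SheafOfModules.IsQuasicoherent (R := (↑U : Scheme.{u}).ringCatSheaf) (R.obj B) := hBU
    exact QCoh.isQuasicoherent_pushforward U.ι (R.obj B)
  haveI : (A ⊞ B).IsQuasicoherent := (QCoh.isCoh_biprod' hA hB).1
  let f : A ⊞ B ⟶ J := biprod.fst ≫ α - biprod.snd ≫ η
  let K := QCoh.kerData f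
  haveI := QCoh.isQuasicoherent_kerData f
  have hK : Coh.IsCoh K.obj :=
    ⟨QCoh.isQuasicoherent_kerData f, QCoh.isFiniteType_of_mono K.ι (QCoh.isCoh_biprod' hA hB).2⟩
  have hη : ∀ V : X.Opens, V ≤ U → Function.Bijective (η.app V) := by
    intro V hV
    have e : U.ι ''ᵁ (U.ι ⁻¹ᵁ V) = V := by
      rw [Scheme.Hom.image_preimage_eq_opensRange_inf, Scheme.Opens.opensRange_ι]; exact inf_eq_right.mpr hV
    show Function.Bijective (B.presheaf.map (homOfLE (U.ι.image_preimage_le V)).op)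
    haveI : IsIso (homOfLE (U.ι.image_preimage_le V)) :=
      ⟨homOfLE e.ge, Subsingleton.elim _ _, Subsingleton.elim _ _⟩
    exact ConcreteCategory.bijective_of_isIso _
  have hκ : K.ι ≫ f = 0 := Scheme.Modules.hom_ext _ _ fun V => by
    ext x
    exact K.ι_app_mem x
  have hrel : (K.ι ≫ biprod.fst) ≫ α = (K.ι ≫ biprod.snd) ≫ η := by
    rw [← sub_eq_zero, Category.assoc, Category.assoc, ← Preadditive.comp_sub]
    exact hκ
  refine ⟨K.obj, hK, K.ι ≫ biprod.fst, K.ι ≫ biprod.snd, app_bijective_of_isIso_restrict _ U fun V hV => ?_, ?_⟩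
  · have hf : ∀ y : Γ(A ⊞ B, V), f.app V y =
        α.app V ((biprod.fst : A ⊞ B ⟶ A).app V y) - η.app V ((biprod.snd : A ⊞ B ⟶ B).app V y) := fun y => rfl
    have hdec : ∀ y : Γ(A ⊞ B, V), y = (biprod.inl : A ⟶ A ⊞ B).app V ((biprod.fst : A ⊞ B ⟶ A).app V y) +
        (biprod.inr : B ⟶ A ⊞ B).app V ((biprod.snd : A ⊞ B ⟶ B).app V y) := fun y =>
      (congrArg (fun k : A ⊞ B ⟶ A ⊞ B => k.app V y) (biprod.total (X := A) (Y := B))).symm
    refine ⟨fun k k' h => K.ι_app_injective V ?_, fun a => ?_⟩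
    · have h1 : f.app V (K.ι.app V k) = 0 := K.ι_app_mem k
      have h2 : f.app V (K.ι.app V k') = 0 := K.ι_app_mem k'
      have h' : (biprod.fst : A ⊞ B ⟶ A).app V (K.ι.app V k) = (biprod.fst : A ⊞ B ⟶ A).app V (K.ι.app V k') := h
      rw [hf, sub_eq_zero] at h1 h2
      rw [hdec (K.ι.app V k), hdec (K.ι.app V k'), h', (hη V hV).1 (h1.symm.trans ((congrArg (α.app V) h').trans h2))]
    · obtain ⟨b, hb⟩ := (hη V hV).2 (α.app V a)
      let y : Γ(A ⊞ B, V) := (biprod.inl : A ⟶ A ⊞ B).app V a + (biprod.inr : B ⟶ A ⊞ B).app V b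
      have hfst : (biprod.fst : A ⊞ B ⟶ A).app V y = a := by
        show (biprod.fst : A ⊞ B ⟶ A).app V (_ + _) = _
        rw [map_add ((biprod.fst : A ⊞ B ⟶ A).app V).hom]
        show ((biprod.inl : A ⟶ A ⊞ B) ≫ biprod.fst).app V a + ((biprod.inr : B ⟶ A ⊞ B) ≫ biprod.fst).app V b = _
        rw [biprod.inl_fst, biprod.inr_fst]
        exact add_zero _
      have hsnd : (biprod.snd : A ⊞ B ⟶ B).app V y = b := by
        show (biprod.snd : A ⊞ B ⟶ B).app V (_ + _) = _
        rw [map_add ((biprod.snd : A ⊞ B ⟶ B).app V).hom]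
        show ((biprod.inl : A ⟶ A ⊞ B) ≫ biprod.snd).app V a + ((biprod.inr : B ⟶ A ⊞ B) ≫ biprod.snd).app V b = _
        rw [biprod.inl_snd, biprod.inr_snd]
        exact zero_add _
      refine ⟨K.lift y (show f.app V y = 0 by rw [hf, hfst, hsnd, hb, sub_self]), ?_⟩
      exact hfst
  · have h := congrArg (adj.homEquiv _ _).symm hrel
    rw [Adjunction.homEquiv_naturality_left_symm, Adjunction.homEquiv_naturality_left_symm,
      Equiv.symm_apply_apply, show (adj.homEquiv _ _).symm η = 𝟙 (R.obj B) from by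
        rw [Adjunction.homEquiv_counit]; exact adj.left_triangle_components B, Category.comp_id] at h
    exact h.symm

/-- Every coherent module on an open extends. -/
theorem exists_extension [IsNoetherian X] (U : X.Opens) (G : (↑U : Scheme.{u}).Modules) (hG : Coh.IsCoh G) :
    ∃ G' : X.Modules, Coh.IsCoh G' ∧ Nonempty ((Scheme.Modules.restrictFunctor U.ι).obj G' ≅ G) := by
  haveI : G.IsQuasicoherent := hG.1
  haveI : QuasiCompact U.ι := inferInstance
  let F : X.Modules := (Scheme.Modules.pushforward U.ι).obj G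
  haveI : F.IsQuasicoherent := QCoh.isQuasicoherent_pushforward U.ι G
  let c := (Scheme.Modules.restrictAdjunction U.ι).counit
  let i : G ⟶ F.restrict U.ι := inv (c.app G)
  haveI : Mono i := show Mono (inv (c.app G)) from inferInstance
  let L := Σ' (n : ℕ), Unit
  obtain ⟨t, ht⟩ := isCompact_univ.elim_finite_subcover (fun V : X.affineOpens => (V.1 : Set X))
    (fun V => V.1.isOpen) fun x _ => by
      obtain ⟨V, hV, hx, -⟩ := exists_isAffineOpen_mem_and_subset (show x ∈ (⊤ : X.Opens) from trivial)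
      exact Set.mem_iUnion.mpr ⟨⟨V, hV⟩, hx⟩
  obtain ⟨G', i', e, -, hq, hft, -⟩ := QCoh.exists_finiteType_extension (i := i) hG.2
    (fun l : Fin t.toList.length => (t.toList.get l).1) (fun l => (t.toList.get l).2)
    (top_le_iff.mp fun x _ => by
      obtain ⟨V, hVt, hxV⟩ := Set.mem_iUnion₂.mp (ht (Set.mem_univ x))
      obtain ⟨l, hl⟩ := List.mem_iff_get.mp (Finset.mem_toList.mpr hVt)
      exact Or.inr (Opens.mem_iSup.mpr ⟨l, hl.symm ▸ hxV⟩))
    (fun l => NoetherianSpace.isCompact _)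
  exact ⟨G', ⟨hq, hft⟩, ⟨e⟩⟩

end GrothLib.CohGab9
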